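import Groth.Agent.InvX.Tensor
import Groth.Prelude.Def_Coh

/-!
# The `p`-th tensor power map of an invertible module on a Frobenius split scheme
-/

universe u

set_option autoImplicit false
set_option backward.isDefEq.respectTransparency false
set_option backward.isDefEq.respectTransparency.types false
set_option linter.style.haveILetI false

open CategoryTheory AlgebraicGeometry TopologicalSpace Opposite

namespace Groth.Agent.FrobSplitPow

open Groth.Agent.InvX Groth.Agent.AModX

variable {X : Scheme.{u}} {L : X.Modules}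

/-- The tensor power of a section. -/
noncomputable def powT : ∀ (n : ℕ) {U : X.Opens}, Γ(L, U) → Γ(CohB1.tensorPow L n, U)
  | 0, U, _ => (show Γ(Coh.structureModule X, U) from (1 : Γ(X, U)))
  | n + 1, _, l => InvX.tmul (powT n l) l

theorem res_powT (n : ℕ) {U V : X.Opens} (h : V ≤ U) (l : Γ(L, U)) :
    res (CohB1.tensorPow L n) h (powT n l) = powT n (res L h l) := by
  induction n with
  | zero => exact map_one (resR h)
  | succ n ih =>
    show res (CohB1.tensorMod (CohB1.tensorPow L n) L) h (InvX.tmul (powT n l) l) = InvX.tmul (powT n (res L h l)) (res L h l)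
    rw [InvX.res_tmul, ih]

theorem powT_smul (n : ℕ) {U : X.Opens} (r : Γ(X, U)) (l : Γ(L, U)) : powT n (r • l) = r ^ n • powT n l := by
  induction n with
  | zero =>
    rw [pow_zero, one_smul]
    rfl
  | succ n ih =>
    show InvX.tmul (powT n (r • l)) (r • l) = r ^ (n + 1) • InvX.tmul (powT n l) l
    rw [ih, InvX.tmul_smul_left, InvX.tmul_smul_right, ← mul_smul, pow_succ]

theorem isFrame_powT (n : ℕ) {U : X.Opens} {e : Γ(L, U)} (he : IsFrame e) : IsFrame (powT n e) := by
  induction n with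
  | zero => exact InvX.isFrame_one U
  | succ n ih => exact InvX.isFrame_tmul ih he

variable (p : ℕ) [Fact p.Prime] (hL : PicF.IsInvertible L) (hp : ∀ (U : X.Opens), (p : Γ(X, U)) = 0)

include hp in
theorem add_pow' {U : X.Opens} (a b : Γ(X, U)) : (a + b) ^ p = a ^ p + b ^ p := by
  rcases subsingleton_or_nontrivial Γ(X, U) with h | h
  · exact Subsingleton.elim _ _
  · haveI : CharP Γ(X, U) p := (CharP.charP_iff_prime_eq_zero Fact.out).2 (hp U)
    exact add_pow_char a b p

include hL hp in
theorem powT_add {U : X.Opens} (a b : Γ(L, U)) : powT p (a + b) = powT p a + powT p b := by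
  refine AModX.eq_of_locally _ _ fun x hx => ?_
  obtain ⟨W, hxW, e, he⟩ := InvX.exists_frame hL x
  obtain ⟨r, hr⟩ := he.exists_coord (inf_le_right : U ⊓ W ≤ W) (res L inf_le_left a)
  obtain ⟨r', hr'⟩ := he.exists_coord (inf_le_right : U ⊓ W ≤ W) (res L inf_le_left b)
  refine ⟨U ⊓ W, inf_le_left, ⟨hx, hxW⟩, ?_⟩
  rw [map_add, res_powT, res_powT, res_powT, map_add, hr, hr', ← add_smul, powT_smul, powT_smul, powT_smul,
    add_pow' p hp, add_smul]

variable (s : ∀ U : X.Opens, Γ(X, U) →+ Γ(X, U))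
  (hres : ∀ (V U : X.Opens) (h : V ≤ U) (a : Γ(X, U)), s V (resR h a) = resR h (s U a))
  (hlin : ∀ (U : X.Opens) (a b : Γ(X, U)), s U (a ^ p * b) = a * s U b)

/-- `l` is the root of the section `y` of the tensor power. -/
def IsRoot {V : X.Opens} (y : Γ(CohB1.tensorPow L p, V)) (l : Γ(L, V)) : Prop :=
  ∀ (W : X.Opens) (h : W ≤ V) (e : Γ(L, W)), IsFrame e → ∀ b : Γ(X, W),
    res (CohB1.tensorPow L p) h y = b • powT p e → res L h l = s W b • e

omit [Fact p.Prime] in
theorem res_coord {V W Z : X.Opens} {y : Γ(CohB1.tensorPow L p, V)} {e : Γ(L, W)} {b : Γ(X, W)} (h : W ≤ V)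
    (k : Z ≤ W) (hb : res (CohB1.tensorPow L p) h y = b • powT p e) :
    res (CohB1.tensorPow L p) (k.trans h) y = resR k b • powT p (res L k e) := by
  rw [← res_powT, ← res_smul, ← hb, res_res]

include hlin in
theorem root_consistent {W : X.Opens} {e e' : Γ(L, W)} (he : IsFrame e) {b b' : Γ(X, W)}
    (h : b • powT p e = b' • powT p e') : s W b • e = s W b' • e' := by
  obtain ⟨r, hr⟩ := he.exists_coord le_rfl e'
  rw [res_self] at hr
  subst hr
  rw [powT_smul, ← mul_smul] at h
  have hb : b = b' * r ^ p := (isFrame_powT p he).coord_unique le_rfl (by rw [res_self]; exact h)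
  rw [hb, mul_comm, hlin, ← mul_smul, mul_comm]

include hL hlin in
theorem isRoot_unique {V : X.Opens} {y : Γ(CohB1.tensorPow L p, V)} {l l' : Γ(L, V)} (h : IsRoot p s y l)
    (h' : IsRoot p s y l') : l = l' := by
  refine AModX.eq_of_locally _ _ fun x hx => ?_
  obtain ⟨W, hxW, e, he⟩ := InvX.exists_frame hL x
  have he' : IsFrame (res L (inf_le_right : V ⊓ W ≤ W) e) := he.res _
  obtain ⟨b, hb⟩ := (isFrame_powT p he').exists_coord le_rfl (res (CohB1.tensorPow L p) (inf_le_left : V ⊓ W ≤ V) y)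
  rw [res_self] at hb
  exact ⟨_, inf_le_left, ⟨hx, hxW⟩, (h _ _ _ he' b hb).trans (h' _ _ _ he' b hb).symm⟩

include hL hres hlin in
theorem exists_isRoot {V : X.Opens} (y : Γ(CohB1.tensorPow L p, V)) : ∃ l, IsRoot p s y l := by
  choose U hU e he using InvX.exists_frame hL
  have he' : ∀ x : V, IsFrame (res L (inf_le_right : V ⊓ U x.1 ≤ U x.1) (e x.1)) := fun x => (he x.1).res _
  have hb := fun x : V => (isFrame_powT p (he' x)).exists_coord le_rfl (res (CohB1.tensorPow L p) (inf_le_left : V ⊓ U x.1 ≤ V) y)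
  simp only [res_self] at hb
  choose b hb using hb
  obtain ⟨l, hl, -⟩ := existsUnique_glue (M := L) (V := V) (fun x : V => V ⊓ U x.1) (fun _ => inf_le_left)
    (fun q hq => ⟨⟨q, hq⟩, hq, hU q⟩) (fun x => s _ (b x) • res L inf_le_right (e x.1)) fun x z => by
      rw [res_smul, res_smul, ← hres, ← hres]
      exact root_consistent p s hlin ((he' x).res _)
        ((res_coord p _ _ (hb x)).symm.trans (res_coord p _ _ (hb z)))
  refine ⟨l, fun W h f hf c hc => AModX.eq_of_locally _ _ fun q hq => ?_⟩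
  let x : V := ⟨q, h hq⟩
  refine ⟨W ⊓ (V ⊓ U q), inf_le_left, ⟨hq, h hq, hU q⟩, ?_⟩
  have h1 := congrArg (res L (inf_le_right : W ⊓ (V ⊓ U q) ≤ V ⊓ U q)) (hl x)
  rw [res_smul, res_res, ← hres] at h1
  rw [res_res, h1, res_smul, ← hres]
  exact root_consistent p s hlin ((he' x).res _)
    ((res_coord p _ _ (hb x)).symm.trans (res_coord p _ _ hc))

include hL hres hlin in
/-- The root of a `p`-th power. -/
theorem isRoot_powT (hs : ∀ (U : X.Opens) (a : Γ(X, U)), s U (a ^ p) = a) {V : X.Opens} (l : Γ(L, V)) :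
    IsRoot p s (powT p l) l := by
  intro W h e he b hb
  obtain ⟨r, hr⟩ := he.exists_coord le_rfl (res L h l)
  rw [res_self] at hr
  rw [res_powT, hr, powT_smul] at hb
  have hrb : r ^ p = b := (isFrame_powT p he).coord_unique le_rfl (by rw [res_self]; exact hb)
  rw [hr, ← hrb, hs]

end Groth.Agent.FrobSplitPow
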